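import Mathlib
import Cfsg.Prelude.Def_Transfer

set_option autoImplicit false

namespace Cfsg.Agent.Helper89

section zpw

variable {E : Type*} [Group E] {p : ℕ} [Fact p.Prime]

/-- `u ^ t` for `t : ZMod p` (sensible when `u ^ p = 1`). -/
def zpw (u : E) (t : ZMod p) : E := u ^ t.val

theorem zpw_zero (u : E) : zpw u (0 : ZMod p) = 1 := by
  simp [zpw]

theorem zpw_one (u : E) : zpw u (1 : ZMod p) = u := by
  have : Fact (1 < p) := ⟨(Fact.out : p.Prime).one_lt⟩
  simp [zpw, ZMod.val_one]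

theorem zpw_natCast {u : E} (hu : u ^ p = 1) (n : ℕ) : zpw u (n : ZMod p) = u ^ n := by
  unfold zpw
  rw [ZMod.val_natCast, ← pow_eq_pow_mod n hu]

theorem zpw_add {u : E} (hu : u ^ p = 1) (s t : ZMod p) : zpw u (s + t) = zpw u s * zpw u t := by
  unfold zpw
  rw [ZMod.val_add, ← pow_eq_pow_mod _ hu, pow_add]

theorem zpw_neg {u : E} (hu : u ^ p = 1) (t : ZMod p) : zpw u (-t) = (zpw u t)⁻¹ := by
  apply eq_inv_of_mul_eq_one_left
  rw [← zpw_add hu, neg_add_cancel, zpw_zero]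

theorem zpw_mul {u : E} (hu : u ^ p = 1) (s t : ZMod p) : zpw (zpw u s) t = zpw u (s * t) := by
  unfold zpw
  rw [ZMod.val_mul, ← pow_eq_pow_mod _ hu, pow_mul]

omit [Fact p.Prime] in
theorem zpw_pow (u : E) (t : ZMod p) (hu : u ^ p = 1) : (zpw u t) ^ p = 1 := by
  unfold zpw
  rw [← pow_mul, mul_comm, pow_mul, hu, one_pow]

theorem zpw_eq_one_iff {u : E} (hu : u ^ p = 1) (hu1 : u ≠ 1) (t : ZMod p) :
    zpw u t = 1 ↔ t = 0 := by
  have hord : orderOf u = p := orderOf_eq_prime hu hu1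
  unfold zpw
  rw [← orderOf_dvd_iff_pow_eq_one, hord]
  constructor
  · intro h
    have hlt : t.val < p := ZMod.val_lt t
    have h0 : t.val = 0 := Nat.eq_zero_of_dvd_of_lt h hlt
    exact (ZMod.val_eq_zero t).mp h0
  · rintro rfl
    simp

theorem zpw_injective {u : E} (hu : u ^ p = 1) (hu1 : u ≠ 1) :
    Function.Injective (zpw u : ZMod p → E) := by
  intro s t hst
  have h1 : zpw u (s - t) = 1 := by
    rw [sub_eq_add_neg, zpw_add hu, zpw_neg hu, hst, mul_inv_cancel]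
  have := (zpw_eq_one_iff hu hu1 _).mp h1
  exact sub_eq_zero.mp this

omit [Fact p.Prime] in
theorem zpw_comm_of_comm {g u : E} (h : g * u = u * g) (t : ZMod p) :
    g * zpw u t = zpw u t * g := by
  unfold zpw
  exact (Commute.pow_right (show Commute g u from h) _).eq

omit [Fact p.Prime] in
theorem map_zpw {E' : Type*} [Group E'] (φ : E →* E') (u : E) (t : ZMod p) :
    φ (zpw u t) = zpw (φ u) t := by
  unfold zpw
  rw [map_pow]

/-- Elements of `zpowers u` are of the form `zpw u t`. -/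
theorem exists_zpw_of_mem_zpowers {u : E} (hu : u ^ p = 1) {g : E} (hg : g ∈ Subgroup.zpowers u) :
    ∃ t : ZMod p, g = zpw u t := by
  obtain ⟨k, rfl⟩ := Subgroup.mem_zpowers_iff.mp hg
  refine ⟨(k : ZMod p), ?_⟩
  have hp : (p : ℤ) ≠ 0 := by
    have := (Fact.out : p.Prime).pos
    omega
  have hnn : 0 ≤ k % (p : ℤ) := Int.emod_nonneg k hp
  obtain ⟨n, hn⟩ := Int.eq_ofNat_of_zero_le hnn
  have h1 : u ^ k = u ^ (k % (p : ℤ)) := by
    have hdiv : k = k % (p : ℤ) + (p : ℤ) * (k / (p : ℤ)) := (Int.emod_add_mul_ediv k p).symm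
    conv_lhs => rw [hdiv]
    rw [zpow_add, zpow_mul, zpow_natCast, hu, one_zpow, mul_one]
  rw [h1, hn, zpow_natCast, ← zpw_natCast hu n]
  congr 1
  have : ((k % (p : ℤ) : ℤ) : ZMod p) = (k : ZMod p) := by
    rw [← ZMod.intCast_mod k p]
  rw [← this, hn]
  simp

end zpw

section class2

variable {E : Type*} [Group E]

/-- `[g g', x] = [g, x] [g', x]` when `[g', x]` is central. -/
theorem comm_mul_left_of_central {g g' x : E}
    (hc : ∀ k : E, (g' * x * g'⁻¹ * x⁻¹) * k = k * (g' * x * g'⁻¹ * x⁻¹)) :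
    (g * g') * x * (g * g')⁻¹ * x⁻¹ = (g * x * g⁻¹ * x⁻¹) * (g' * x * g'⁻¹ * x⁻¹) := by
  have h1 := hc (x * g⁻¹ * x⁻¹)
  calc (g * g') * x * (g * g')⁻¹ * x⁻¹
      = g * ((g' * x * g'⁻¹ * x⁻¹) * (x * g⁻¹ * x⁻¹)) := by group
    _ = g * ((x * g⁻¹ * x⁻¹) * (g' * x * g'⁻¹ * x⁻¹)) := by rw [h1]
    _ = (g * x * g⁻¹ * x⁻¹) * (g' * x * g'⁻¹ * x⁻¹) := by group

/-- `[g, x y] = [g, x] [g, y]` when `[g, y]` is central. -/
theorem comm_mul_right_of_central {g x y : E}
    (hc : ∀ k : E, (g * y * g⁻¹ * y⁻¹) * k = k * (g * y * g⁻¹ * y⁻¹)) :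
    g * (x * y) * g⁻¹ * (x * y)⁻¹ = (g * x * g⁻¹ * x⁻¹) * (g * y * g⁻¹ * y⁻¹) := by
  have h1 := hc x⁻¹
  calc g * (x * y) * g⁻¹ * (x * y)⁻¹
      = g * x * g⁻¹ * ((g * y * g⁻¹ * y⁻¹) * x⁻¹) := by group
    _ = g * x * g⁻¹ * (x⁻¹ * (g * y * g⁻¹ * y⁻¹)) := by rw [h1]
    _ = (g * x * g⁻¹ * x⁻¹) * (g * y * g⁻¹ * y⁻¹) := by group

end class2

/-- An extraspecial-like group of exponent `p`: `c` generates the centre, all commutators are
powers of `c`, all `p`-th powers are trivial.  (The cyclic group of order `p` is allowed.) -/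
structure GoodP (p : ℕ) [Fact p.Prime] (E : Type*) [Group E] (c : E) : Prop where
  ne_one : c ≠ 1
  central : ∀ g : E, g * c = c * g
  exp : ∀ g : E, g ^ p = 1
  comm : ∀ g h : E, ∃ t : ZMod p, g * h * g⁻¹ * h⁻¹ = zpw c t
  cent : ∀ g : E, (∀ h : E, g * h = h * g) → ∃ t : ZMod p, g = zpw c t

namespace GoodP

variable {p : ℕ} [Fact p.Prime] {E : Type*} [Group E] {c : E}

theorem zpw_central (h : GoodP p E c) (t : ZMod p) (g : E) : zpw c t * g = g * zpw c t :=
  (zpw_comm_of_comm (h.central g) t).symm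

theorem comm_central (h : GoodP p E c) (g x k : E) :
    (g * x * g⁻¹ * x⁻¹) * k = k * (g * x * g⁻¹ * x⁻¹) := by
  obtain ⟨t, ht⟩ := h.comm g x
  rw [ht]
  exact h.zpw_central t k

theorem comm_mul_left (h : GoodP p E c) (g g' x : E) :
    (g * g') * x * (g * g')⁻¹ * x⁻¹ = (g * x * g⁻¹ * x⁻¹) * (g' * x * g'⁻¹ * x⁻¹) :=
  comm_mul_left_of_central (h.comm_central g' x)

theorem comm_mul_right (h : GoodP p E c) (g x y : E) :
    g * (x * y) * g⁻¹ * (x * y)⁻¹ = (g * x * g⁻¹ * x⁻¹) * (g * y * g⁻¹ * y⁻¹) :=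
  comm_mul_right_of_central (h.comm_central g y)

theorem comm_pow_left (h : GoodP p E c) (g x : E) (n : ℕ) :
    (g ^ n) * x * (g ^ n)⁻¹ * x⁻¹ = (g * x * g⁻¹ * x⁻¹) ^ n := by
  induction n with
  | zero => simp
  | succ n ih =>
    rw [pow_succ, h.comm_mul_left, ih, pow_succ]

theorem comm_pow_right (h : GoodP p E c) (g x : E) (n : ℕ) :
    g * (x ^ n) * g⁻¹ * (x ^ n)⁻¹ = (g * x * g⁻¹ * x⁻¹) ^ n := by
  induction n with
  | zero => simp
  | succ n ih =>
    rw [pow_succ, h.comm_mul_right, ih, pow_succ]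

theorem comm_zpw_left (h : GoodP p E c) (g x : E) (t : ZMod p) :
    (zpw g t) * x * (zpw g t)⁻¹ * x⁻¹ = zpw (g * x * g⁻¹ * x⁻¹) t :=
  h.comm_pow_left g x t.val

theorem comm_zpw_right (h : GoodP p E c) (g x : E) (t : ZMod p) :
    g * (zpw x t) * g⁻¹ * (zpw x t)⁻¹ = zpw (g * x * g⁻¹ * x⁻¹) t :=
  h.comm_pow_right g x t.val

theorem c_pow (h : GoodP p E c) : c ^ p = 1 := h.exp c

end GoodP

/-- An extraspecial `p`-group of exponent `p` is `GoodP`. -/
theorem GoodP.of_isExtraspecial {p : ℕ} [Fact p.Prime] {E : Type*} [Group E] [Finite E]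
    (hE : Cfsg.IsExtraspecial p E) (hexp : Monoid.exponent E = p) : ∃ c : E, GoodP p E c := by
  have hp : p.Prime := Fact.out
  have hcard : Nat.card (Subgroup.center E) = p := hE.2
  have hne : ∃ c' : Subgroup.center E, c' ≠ 1 := by
    by_contra hcon
    push Not at hcon
    have : Nat.card (Subgroup.center E) = 1 := by
      rw [Nat.card_eq_one_iff_unique]
      exact ⟨⟨fun a b => (hcon a).trans (hcon b).symm⟩, ⟨1⟩⟩
    rw [hcard] at this
    exact hp.one_lt.ne' this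
  obtain ⟨c', hc'ne⟩ := hne
  have hexpg : ∀ g : E, g ^ p = 1 := by
    intro g
    rw [← hexp]
    exact Monoid.pow_exponent_eq_one g
  have hc'1 : (c' : E) ≠ 1 := fun h => hc'ne (Subtype.ext h)
  have hzp : Subgroup.zpowers c' = ⊤ := zpowers_eq_top_of_prime_card hcard hc'ne
  have hmem : ∀ g : E, g ∈ Subgroup.center E → ∃ t : ZMod p, g = zpw (c' : E) t := by
    intro g hg
    have h1 : (⟨g, hg⟩ : Subgroup.center E) ∈ Subgroup.zpowers c' := by rw [hzp]; trivial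
    have h2 : g ∈ Subgroup.zpowers (c' : E) := by
      obtain ⟨k, hk⟩ := Subgroup.mem_zpowers_iff.mp h1
      rw [Subgroup.mem_zpowers_iff]
      refine ⟨k, ?_⟩
      have := congrArg Subtype.val hk
      simpa using this
    exact exists_zpw_of_mem_zpowers (hexpg _) h2
  refine ⟨(c' : E), hc'1, ?_, hexpg, ?_, ?_⟩
  · intro g
    exact Subgroup.mem_center_iff.mp c'.2 g
  · intro g k
    apply hmem
    rw [← hE.1.2.2, commutator_def, ← commutatorElement_def]
    exact Subgroup.commutator_mem_commutator (Subgroup.mem_top _) (Subgroup.mem_top _)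
  · intro g hg
    apply hmem
    rw [Subgroup.mem_center_iff]
    intro k
    exact (hg k).symm

end Cfsg.Agent.Helper89
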