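import Mathlib
import Cfsg.Agent.Lib.Helper89.OddP.Basic

set_option autoImplicit false

namespace Cfsg.Agent.Helper89

/-- A central element of order dividing `p`. -/
structure CentralP (p : ℕ) (E : Type*) [Group E] where
  val : E
  central : ∀ g : E, g * val = val * g
  pow : val ^ p = 1

namespace CentralP

variable {p : ℕ} [Fact p.Prime] {E : Type*} [Group E] (c : CentralP p E)

/-- `c ^ t` for `t : ZMod p`. -/
def pw (t : ZMod p) : E := zpw c.val t

@[simp] theorem pw_zero : c.pw 0 = 1 := zpw_zero _

theorem pw_add (s t : ZMod p) : c.pw (s + t) = c.pw s * c.pw t := zpw_add c.pow s t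

theorem pw_neg (t : ZMod p) : c.pw (-t) = (c.pw t)⁻¹ := zpw_neg c.pow t

omit [Fact p.Prime] in
theorem pw_central (t : ZMod p) (g : E) : g * c.pw t = c.pw t * g :=
  zpw_comm_of_comm (c.central g) t

end CentralP

/-- The twisted product `E ∘ ⟨x, y⟩` with `x^p = y^p = 1`, `[y, x] = c`: the central product of
`E` with the extraspecial group of order `p^3` and exponent `p`. -/
@[ext]
structure TwistP (p : ℕ) [Fact p.Prime] (E : Type*) [Group E] (c : CentralP p E) where
  g : E
  x : ZMod p
  y : ZMod p

namespace TwistP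

variable {p : ℕ} [Fact p.Prime] {E : Type*} [Group E] {c : CentralP p E}

instance : Mul (TwistP p E c) :=
  ⟨fun a b => ⟨a.g * b.g * c.pw (a.y * b.x), a.x + b.x, a.y + b.y⟩⟩

instance : One (TwistP p E c) := ⟨⟨1, 0, 0⟩⟩

instance : Inv (TwistP p E c) :=
  ⟨fun a => ⟨a.g⁻¹ * c.pw (a.y * a.x), -a.x, -a.y⟩⟩

theorem mul_g' (a b : TwistP p E c) : (a * b).g = a.g * b.g * c.pw (a.y * b.x) := rfl
theorem mul_x' (a b : TwistP p E c) : (a * b).x = a.x + b.x := rfl
theorem mul_y' (a b : TwistP p E c) : (a * b).y = a.y + b.y := rfl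
theorem one_g' : (1 : TwistP p E c).g = 1 := rfl
theorem one_x' : (1 : TwistP p E c).x = 0 := rfl
theorem one_y' : (1 : TwistP p E c).y = 0 := rfl
theorem inv_g' (a : TwistP p E c) : (a⁻¹).g = a.g⁻¹ * c.pw (a.y * a.x) := rfl
theorem inv_x' (a : TwistP p E c) : (a⁻¹).x = -a.x := rfl
theorem inv_y' (a : TwistP p E c) : (a⁻¹).y = -a.y := rfl

instance : Group (TwistP p E c) :=
  Group.ofLeftAxioms
    (by
      intro a b d
      apply TwistP.ext
      · simp only [mul_g', mul_x', mul_y']
        have hβ : a.y * b.x + (a.y + b.y) * d.x = b.y * d.x + a.y * (b.x + d.x) := by ring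
        calc a.g * b.g * c.pw (a.y * b.x) * d.g * c.pw ((a.y + b.y) * d.x)
            = a.g * b.g * (c.pw (a.y * b.x) * d.g) * c.pw ((a.y + b.y) * d.x) := by group
          _ = a.g * b.g * (d.g * c.pw (a.y * b.x)) * c.pw ((a.y + b.y) * d.x) := by
              rw [← c.pw_central]
          _ = a.g * b.g * d.g * (c.pw (a.y * b.x) * c.pw ((a.y + b.y) * d.x)) := by group
          _ = a.g * b.g * d.g * (c.pw (b.y * d.x) * c.pw (a.y * (b.x + d.x))) := by
              rw [← c.pw_add, ← c.pw_add, hβ]
          _ = a.g * (b.g * d.g * c.pw (b.y * d.x)) * c.pw (a.y * (b.x + d.x)) := by group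
      · simp only [mul_x', add_assoc]
      · simp only [mul_y', add_assoc])
    (by
      intro a
      apply TwistP.ext
      · simp [mul_g', one_g', one_y']
      · simp [mul_x', one_x']
      · simp [mul_y', one_y'])
    (by
      intro a
      apply TwistP.ext
      · simp only [mul_g', inv_g', inv_y', one_g']
        have e : -a.y * a.x = -(a.y * a.x) := by ring
        rw [e, c.pw_neg]
        calc a.g⁻¹ * c.pw (a.y * a.x) * a.g * (c.pw (a.y * a.x))⁻¹
            = a.g⁻¹ * (c.pw (a.y * a.x) * a.g) * (c.pw (a.y * a.x))⁻¹ := by group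
          _ = a.g⁻¹ * (a.g * c.pw (a.y * a.x)) * (c.pw (a.y * a.x))⁻¹ := by
              rw [← c.pw_central]
          _ = 1 := by group
      · simp only [mul_x', inv_x', one_x']
        exact neg_add_cancel _
      · simp only [mul_y', inv_y', one_y']
        exact neg_add_cancel _)

@[simp] theorem mul_g (a b : TwistP p E c) : (a * b).g = a.g * b.g * c.pw (a.y * b.x) := rfl
@[simp] theorem mul_x (a b : TwistP p E c) : (a * b).x = a.x + b.x := rfl
@[simp] theorem mul_y (a b : TwistP p E c) : (a * b).y = a.y + b.y := rfl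
@[simp] theorem one_g : (1 : TwistP p E c).g = 1 := rfl
@[simp] theorem one_x : (1 : TwistP p E c).x = 0 := rfl
@[simp] theorem one_y : (1 : TwistP p E c).y = 0 := rfl

/-- The underlying product. -/
def equivProd : TwistP p E c ≃ E × ZMod p × ZMod p where
  toFun a := (a.g, a.x, a.y)
  invFun t := ⟨t.1, t.2.1, t.2.2⟩
  left_inv _ := rfl
  right_inv _ := rfl

instance [Finite E] : Finite (TwistP p E c) := Finite.of_equiv _ equivProd.symm

theorem card_eq : Nat.card (TwistP p E c) = Nat.card E * (p * p) := by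
  rw [Nat.card_congr (equivProd (c := c)), Nat.card_prod, Nat.card_prod]
  simp

/-- The embedding of `E`. -/
def inl : E →* TwistP p E c where
  toFun g := ⟨g, 0, 0⟩
  map_one' := rfl
  map_mul' g h := by
    apply TwistP.ext
    · simp
    · simp
    · simp

@[simp] theorem inl_g (k : E) : (inl k : TwistP p E c).g = k := rfl
@[simp] theorem inl_x (k : E) : (inl k : TwistP p E c).x = 0 := rfl
@[simp] theorem inl_y (k : E) : (inl k : TwistP p E c).y = 0 := rfl

/-- Functoriality in `E`. -/
def congr {E' : Type*} [Group E'] {c' : CentralP p E'} (φ : E ≃* E') (hφ : φ c.val = c'.val) :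
    TwistP p E c ≃* TwistP p E' c' where
  toFun a := ⟨φ a.g, a.x, a.y⟩
  invFun a := ⟨φ.symm a.g, a.x, a.y⟩
  left_inv a := by
    apply TwistP.ext
    · simp
    · rfl
    · rfl
  right_inv a := by
    apply TwistP.ext
    · simp
    · rfl
    · rfl
  map_mul' a b := by
    apply TwistP.ext
    · simp only [mul_g, map_mul]
      have : φ (c.pw (a.y * b.x)) = c'.pw (a.y * b.x) := by
        unfold CentralP.pw
        rw [← hφ]
        exact map_zpw φ.toMonoidHom c.val _
      rw [this]
    · rfl
    · rfl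

@[simp] theorem congr_inl {E' : Type*} [Group E'] {c' : CentralP p E'} (φ : E ≃* E')
    (hφ : φ c.val = c'.val) (k : E) : congr φ hφ (inl k) = inl (φ k) := rfl

end TwistP

end Cfsg.Agent.Helper89
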