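import Mathlib
import Cfsg.Agent.Lib.Helper89.OddP.TwistP

set_option autoImplicit false

namespace Cfsg.Agent.Helper89

section
variable {E : Type*} [Group E]

/-- The centralizer of two elements. -/
def centP (x y : E) : Subgroup E := Subgroup.centralizer {x} ⊓ Subgroup.centralizer {y}

theorem mem_centP {x y g : E} : g ∈ centP x y ↔ g * x = x * g ∧ g * y = y * g := by
  unfold centP
  rw [Subgroup.mem_inf, Subgroup.mem_centralizer_singleton_iff, Subgroup.mem_centralizer_singleton_iff]

theorem commutator_eq_one_iff_comm {g x : E} : g * x * g⁻¹ * x⁻¹ = 1 ↔ g * x = x * g := by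
  constructor
  · intro h
    calc g * x = (g * x * g⁻¹ * x⁻¹) * (x * g) := by group
      _ = x * g := by rw [h, one_mul]
  · intro h
    rw [h]; group

end

namespace GoodP

variable {p : ℕ} [Fact p.Prime] {E : Type*} [Group E] {c : E} (h : GoodP p E c) {x y : E}

/-- `c` as a `CentralP`. -/
def toCentralP : CentralP p E where
  val := c
  central := h.central
  pow := h.exp c

include h in
theorem c_mem_centP : c ∈ centP x y := mem_centP.mpr ⟨(h.central x).symm, (h.central y).symm⟩

/-- The central element of the centralizer. -/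
def centC : CentralP p ↥(centP x y) where
  val := ⟨c, h.c_mem_centP⟩
  central := fun g => Subtype.ext (h.central g)
  pow := Subtype.ext (h.exp c)

theorem centC_pw (t : ZMod p) :
    (((h.centC (x := x) (y := y)).pw t : ↥(centP x y)) : E) = zpw c t := by
  unfold CentralP.pw zpw centC
  simp

/-- The decomposition map, as a function. -/
def decompFun (a : TwistP p ↥(centP x y) (h.centC (x := x) (y := y))) : E :=
  (a.g : E) * zpw x a.x * zpw y a.y

variable (hxy : y * x * y⁻¹ * x⁻¹ = c)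

include h hxy in
theorem zpw_y_zpw_x (s t : ZMod p) : zpw y s * zpw x t = zpw c (s * t) * (zpw x t * zpw y s) := by
  have h1 : zpw y s * zpw x t * (zpw y s)⁻¹ * (zpw x t)⁻¹ = zpw c (s * t) := by
    rw [h.comm_zpw_left, h.comm_zpw_right, hxy, zpw_mul (h.exp c), mul_comm]
  calc zpw y s * zpw x t = (zpw y s * zpw x t * (zpw y s)⁻¹ * (zpw x t)⁻¹) * (zpw x t * zpw y s) := by
        group
    _ = zpw c (s * t) * (zpw x t * zpw y s) := by rw [h1]

include h hxy in
theorem decompFun_mul (a b : TwistP p ↥(centP x y) (h.centC (x := x) (y := y))) :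
    h.decompFun (a * b) = h.decompFun a * h.decompFun b := by
  unfold decompFun
  simp only [TwistP.mul_g, TwistP.mul_x, TwistP.mul_y, Subgroup.coe_mul, centC_pw]
  have hb := mem_centP.mp b.g.2
  have hB_X1 : (b.g : E) * zpw x a.x = zpw x a.x * (b.g : E) := zpw_comm_of_comm hb.1 _
  have hB_Y1 : (b.g : E) * zpw y a.y = zpw y a.y * (b.g : E) := zpw_comm_of_comm hb.2 _
  have hYX := h.zpw_y_zpw_x hxy a.y b.x
  have hXX : zpw x (a.x + b.x) = zpw x a.x * zpw x b.x := zpw_add (h.exp x) _ _
  have hYY : zpw y (a.y + b.y) = zpw y a.y * zpw y b.y := zpw_add (h.exp y) _ _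
  have hP := h.zpw_central (a.y * b.x)
  rw [hXX, hYY]
  symm
  calc (a.g : E) * zpw x a.x * zpw y a.y * ((b.g : E) * zpw x b.x * zpw y b.y)
      = (a.g : E) * zpw x a.x * (zpw y a.y * (b.g : E)) * zpw x b.x * zpw y b.y := by group
    _ = (a.g : E) * zpw x a.x * ((b.g : E) * zpw y a.y) * zpw x b.x * zpw y b.y := by rw [hB_Y1]
    _ = (a.g : E) * (zpw x a.x * (b.g : E)) * (zpw y a.y * zpw x b.x) * zpw y b.y := by group
    _ = (a.g : E) * ((b.g : E) * zpw x a.x) * (zpw c (a.y * b.x) * (zpw x b.x * zpw y a.y)) *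
          zpw y b.y := by rw [hB_X1, hYX]
    _ = (a.g : E) * (b.g : E) * (zpw x a.x * zpw c (a.y * b.x)) * zpw x b.x *
          (zpw y a.y * zpw y b.y) := by group
    _ = (a.g : E) * (b.g : E) * (zpw c (a.y * b.x) * zpw x a.x) * zpw x b.x *
          (zpw y a.y * zpw y b.y) := by rw [hP]
    _ = (a.g : E) * (b.g : E) * zpw c (a.y * b.x) * (zpw x a.x * zpw x b.x) *
          (zpw y a.y * zpw y b.y) := by group

/-- The decomposition homomorphism `C_E(x, y) ∘ ⟨x, y⟩ → E`. -/
def decompHom : TwistP p ↥(centP x y) (h.centC (x := x) (y := y)) →* E where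
  toFun := h.decompFun
  map_one' := by
    unfold decompFun
    simp [zpw_zero]
  map_mul' := h.decompFun_mul hxy

theorem decompHom_apply (a : TwistP p ↥(centP x y) (h.centC (x := x) (y := y))) :
    h.decompHom hxy a = (a.g : E) * zpw x a.x * zpw y a.y := rfl

include h hxy in
theorem xy_comm : x * y * x⁻¹ * y⁻¹ = zpw c (-1 : ZMod p) := by
  have : x * y * x⁻¹ * y⁻¹ = (y * x * y⁻¹ * x⁻¹)⁻¹ := by group
  rw [this, hxy, zpw_neg (h.exp c), zpw_one]

include h hxy in
/-- `[g x^a y^b, x] = c^b` for `g ∈ C(x, y)`. -/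
theorem comm_decomp_x {g : E} (hg : g ∈ centP x y) (a b : ZMod p) :
    (g * zpw x a * zpw y b) * x * (g * zpw x a * zpw y b)⁻¹ * x⁻¹ = zpw c b := by
  have hgm := mem_centP.mp hg
  rw [h.comm_mul_left, h.comm_mul_left, h.comm_zpw_left, h.comm_zpw_left, hxy,
    commutator_eq_one_iff_comm.mpr hgm.1]
  have : x * x * x⁻¹ * x⁻¹ = 1 := by group
  rw [this]
  simp [zpw, one_pow]

include h hxy in
/-- `[g x^a y^b, y] = c^(-a)` for `g ∈ C(x, y)`. -/
theorem comm_decomp_y {g : E} (hg : g ∈ centP x y) (a b : ZMod p) :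
    (g * zpw x a * zpw y b) * y * (g * zpw x a * zpw y b)⁻¹ * y⁻¹ = zpw c (-a) := by
  have hgm := mem_centP.mp hg
  rw [h.comm_mul_left, h.comm_mul_left, h.comm_zpw_left, h.comm_zpw_left, h.xy_comm hxy,
    commutator_eq_one_iff_comm.mpr hgm.2]
  have : y * y * y⁻¹ * y⁻¹ = 1 := by group
  rw [this, zpw_mul (h.exp c)]
  simp [zpw, one_pow]

theorem decompHom_injective : Function.Injective (h.decompHom hxy) := by
  rw [injective_iff_map_eq_one]
  intro a ha
  rw [decompHom_apply] at ha
  have h1 := h.comm_decomp_x hxy a.g.2 a.x a.y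
  have h2 := h.comm_decomp_y hxy a.g.2 a.x a.y
  rw [ha] at h1 h2
  have e1 : (1 : E) * x * 1⁻¹ * x⁻¹ = 1 := by group
  have e2 : (1 : E) * y * 1⁻¹ * y⁻¹ = 1 := by group
  rw [e1] at h1
  rw [e2] at h2
  have hy0 : a.y = 0 := (zpw_eq_one_iff (h.exp c) h.ne_one _).mp h1.symm
  have hx0 : a.x = 0 := by
    have := (zpw_eq_one_iff (h.exp c) h.ne_one _).mp h2.symm
    exact neg_eq_zero.mp this
  rw [hx0, hy0, zpw_zero, zpw_zero, mul_one, mul_one] at ha
  apply TwistP.ext
  · exact Subtype.ext ha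
  · exact hx0
  · exact hy0

theorem decompHom_surjective : Function.Surjective (h.decompHom hxy) := by
  intro e
  obtain ⟨s, hs⟩ := h.comm e x
  obtain ⟨t, ht⟩ := h.comm e y
  -- g := e * y^(-s) * x^t centralizes x and y
  set g : E := e * zpw y (-s) * zpw x t with hg
  have hcy : zpw y (-s) * x * (zpw y (-s))⁻¹ * x⁻¹ = zpw c (-s) := by
    rw [h.comm_zpw_left, hxy]
  have hcx : zpw x t * x * (zpw x t)⁻¹ * x⁻¹ = 1 := by
    rw [h.comm_zpw_left]
    have : x * x * x⁻¹ * x⁻¹ = 1 := by group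
    rw [this]; simp [zpw, one_pow]
  have hcy' : zpw y (-s) * y * (zpw y (-s))⁻¹ * y⁻¹ = 1 := by
    rw [h.comm_zpw_left]
    have : y * y * y⁻¹ * y⁻¹ = 1 := by group
    rw [this]; simp [zpw, one_pow]
  have hcx' : zpw x t * y * (zpw x t)⁻¹ * y⁻¹ = zpw c (-t) := by
    rw [h.comm_zpw_left, h.xy_comm hxy, zpw_mul (h.exp c)]
    congr 1; ring
  have hgx : g * x * g⁻¹ * x⁻¹ = 1 := by
    rw [hg, h.comm_mul_left, h.comm_mul_left, hs, hcy, hcx, mul_one, ← zpw_add (h.exp c),
      add_neg_cancel, zpw_zero]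
  have hgy : g * y * g⁻¹ * y⁻¹ = 1 := by
    rw [hg, h.comm_mul_left, h.comm_mul_left, ht, hcy', hcx', mul_one, ← zpw_add (h.exp c),
      add_neg_cancel, zpw_zero]
  have hgC : g ∈ centP x y :=
    mem_centP.mpr ⟨commutator_eq_one_iff_comm.mp hgx, commutator_eq_one_iff_comm.mp hgy⟩
  refine ⟨⟨⟨g, hgC⟩, -t, s⟩, ?_⟩
  rw [decompHom_apply]
  simp only
  rw [zpw_neg (h.exp x), hg, zpw_neg (h.exp y)]
  group

/-- The decomposition `E ≅ C_E(x, y) ∘ ⟨x, y⟩`. -/
noncomputable def decompEquiv : TwistP p ↥(centP x y) (h.centC (x := x) (y := y)) ≃* E :=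
  MulEquiv.ofBijective (h.decompHom hxy) ⟨h.decompHom_injective hxy, h.decompHom_surjective hxy⟩

theorem decompEquiv_apply (a : TwistP p ↥(centP x y) (h.centC (x := x) (y := y))) :
    h.decompEquiv hxy a = (a.g : E) * zpw x a.x * zpw y a.y := rfl

theorem decompEquiv_inl :
    h.decompEquiv hxy (TwistP.inl (h.centC (x := x) (y := y)).val) = c := by
  rw [decompEquiv_apply, TwistP.inl_g, TwistP.inl_x, TwistP.inl_y, zpw_zero, zpw_zero, mul_one,
    mul_one]
  rfl

include h hxy in
theorem card_eq_mul [Finite E] : Nat.card E = Nat.card ↥(centP x y) * (p * p) := by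
  rw [← Nat.card_congr (h.decompEquiv hxy).toEquiv, TwistP.card_eq]

include hxy in
/-- The centralizer of the pair is again `GoodP`. -/
theorem goodP_centP : GoodP p ↥(centP x y) (h.centC (x := x) (y := y)).val where
  ne_one := by
    intro h1
    exact h.ne_one (congrArg Subtype.val h1)
  central := fun g => Subtype.ext (h.central g)
  exp := fun g => Subtype.ext (h.exp g)
  comm := by
    intro g k
    obtain ⟨t, ht⟩ := h.comm (g : E) (k : E)
    refine ⟨t, ?_⟩
    apply Subtype.ext
    have : ((zpw (h.centC (x := x) (y := y)).val t : ↥(centP x y)) : E) = zpw c t := h.centC_pw t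
    rw [this, ← ht]
    simp
  cent := by
    intro g hg
    have hgm := mem_centP.mp g.2
    have hall : ∀ k : E, (g : E) * k = k * (g : E) := by
      intro k
      obtain ⟨a, rfl⟩ := (h.decompEquiv hxy).surjective k
      rw [decompEquiv_apply]
      have h1 : (g : E) * (a.g : E) = (a.g : E) * (g : E) := congrArg Subtype.val (hg a.g)
      have h2 := zpw_comm_of_comm hgm.1 a.x
      have h3 := zpw_comm_of_comm hgm.2 a.y
      calc (g : E) * ((a.g : E) * zpw x a.x * zpw y a.y)
          = ((g : E) * (a.g : E)) * zpw x a.x * zpw y a.y := by group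
        _ = ((a.g : E) * (g : E)) * zpw x a.x * zpw y a.y := by rw [h1]
        _ = (a.g : E) * ((g : E) * zpw x a.x) * zpw y a.y := by group
        _ = (a.g : E) * (zpw x a.x * (g : E)) * zpw y a.y := by rw [h2]
        _ = (a.g : E) * zpw x a.x * ((g : E) * zpw y a.y) := by group
        _ = (a.g : E) * zpw x a.x * (zpw y a.y * (g : E)) := by rw [h3]
        _ = (a.g : E) * zpw x a.x * zpw y a.y * (g : E) := by group
    obtain ⟨t, ht⟩ := h.cent (g : E) hall
    refine ⟨t, ?_⟩
    apply Subtype.ext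
    have : ((zpw (h.centC (x := x) (y := y)).val t : ↥(centP x y)) : E) = zpw c t := h.centC_pw t
    rw [this, ht]

end GoodP

end Cfsg.Agent.Helper89
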