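import Mathlib
import Cfsg.Agent.Lib.Helper89.OddP.Decomp

set_option autoImplicit false

universe u₁ u₂

namespace Cfsg.Agent.Helper89

namespace GoodP

variable {p : ℕ} [Fact p.Prime]

section
variable {E : Type*} [Group E] {c : E} (h : GoodP p E c)

/-- The homomorphism `t ↦ c ^ t`. -/
def zpwHom : Multiplicative (ZMod p) →* E where
  toFun := fun t => zpw c (Multiplicative.toAdd t)
  map_one' := zpw_zero c
  map_mul' := fun _ _ => zpw_add (h.exp c) _ _

theorem zpwHom_apply (t : Multiplicative (ZMod p)) :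
    h.zpwHom t = zpw c (Multiplicative.toAdd t) := rfl

/-- In the abelian case `t ↦ c ^ t` is an isomorphism `ZMod p ≃ E`. -/
noncomputable def equivOfComm (hab : ∀ g k : E, g * k = k * g) : Multiplicative (ZMod p) ≃* E :=
  MulEquiv.ofBijective h.zpwHom
    ⟨fun s t hst => by
        rw [zpwHom_apply, zpwHom_apply] at hst
        have := zpw_injective (h.exp c) h.ne_one hst
        exact Multiplicative.toAdd.injective this,
     fun g => by
        obtain ⟨t, ht⟩ := h.cent g (fun k => hab g k)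
        exact ⟨Multiplicative.ofAdd t, ht.symm⟩⟩

theorem equivOfComm_one (hab : ∀ g k : E, g * k = k * g) :
    h.equivOfComm hab (Multiplicative.ofAdd 1) = c := by
  show zpw c (Multiplicative.toAdd (Multiplicative.ofAdd (1 : ZMod p))) = c
  rw [toAdd_ofAdd, zpw_one]

include h in
theorem card_of_comm (hab : ∀ g k : E, g * k = k * g) : Nat.card E = p := by
  rw [← Nat.card_congr (h.equivOfComm hab).toEquiv]
  simp

include h in
/-- In the non-abelian case there is a pair with commutator `c`. -/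
theorem exists_pair (hnab : ¬ ∀ g k : E, g * k = k * g) : ∃ x y : E, y * x * y⁻¹ * x⁻¹ = c := by
  push Not at hnab
  obtain ⟨g, k, hgk⟩ := hnab
  obtain ⟨t, ht⟩ := h.comm g k
  have ht0 : t ≠ 0 := by
    rintro rfl
    rw [zpw_zero] at ht
    exact hgk (commutator_eq_one_iff_comm.mp ht)
  refine ⟨zpw k t⁻¹, g, ?_⟩
  rw [h.comm_zpw_right, ht, zpw_mul (h.exp c), mul_inv_cancel₀ ht0, zpw_one]

include h in
theorem card_gt_of_not_comm [Finite E] (hnab : ¬ ∀ g k : E, g * k = k * g) : p < Nat.card E := by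
  obtain ⟨x, y, hxy⟩ := h.exists_pair hnab
  have h1 := h.card_eq_mul hxy
  have hpos : 0 < Nat.card ↥(centP x y) := Nat.card_pos
  have hp2 : 2 ≤ p := (Fact.out : p.Prime).two_le
  have : p * p ≤ Nat.card ↥(centP x y) * (p * p) := Nat.le_mul_of_pos_left _ hpos
  nlinarith

end

/-- Two `GoodP` groups of the same order are isomorphic, by an isomorphism matching the
distinguished central elements. -/
theorem exists_equiv_aux (N : ℕ) : ∀ (E₁ : Type u₁) (E₂ : Type u₂) [Group E₁] [Group E₂]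
    [Finite E₁] [Finite E₂] (c₁ : E₁) (c₂ : E₂), GoodP p E₁ c₁ → GoodP p E₂ c₂ →
    Nat.card E₁ = Nat.card E₂ → Nat.card E₁ ≤ N → ∃ θ : E₁ ≃* E₂, θ c₁ = c₂ := by
  induction N with
  | zero =>
    intro E₁ E₂ _ _ _ _ c₁ c₂ _ _ _ hle
    have : 0 < Nat.card E₁ := Nat.card_pos
    omega
  | succ N ih =>
    intro E₁ E₂ _ _ _ _ c₁ c₂ h₁ h₂ hcard hle
    have hp2 : 2 ≤ p := (Fact.out : p.Prime).two_le
    by_cases hab₁ : ∀ g k : E₁, g * k = k * g
    · have hc1 : Nat.card E₁ = p := h₁.card_of_comm hab₁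
      have hab₂ : ∀ g k : E₂, g * k = k * g := by
        by_contra hnab
        have := h₂.card_gt_of_not_comm hnab
        omega
      refine ⟨(h₁.equivOfComm hab₁).symm.trans (h₂.equivOfComm hab₂), ?_⟩
      rw [MulEquiv.trans_apply]
      have e1 : (h₁.equivOfComm hab₁).symm c₁ = Multiplicative.ofAdd 1 := by
        rw [MulEquiv.symm_apply_eq]; exact (h₁.equivOfComm_one hab₁).symm
      rw [e1, h₂.equivOfComm_one]
    · have hab₂ : ¬ ∀ g k : E₂, g * k = k * g := by
        intro hab₂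
        have hc2 : Nat.card E₂ = p := h₂.card_of_comm hab₂
        have := h₁.card_gt_of_not_comm hab₁
        omega
      obtain ⟨x₁, y₁, hxy₁⟩ := h₁.exists_pair hab₁
      obtain ⟨x₂, y₂, hxy₂⟩ := h₂.exists_pair hab₂
      have hc₁ := h₁.card_eq_mul hxy₁
      have hc₂ := h₂.card_eq_mul hxy₂
      have hpp : 0 < p * p := by positivity
      have hcC : Nat.card ↥(centP x₁ y₁) = Nat.card ↥(centP x₂ y₂) := by
        apply Nat.eq_of_mul_eq_mul_right hpp
        rw [← hc₁, ← hc₂, hcard]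
      have hlt : Nat.card ↥(centP x₁ y₁) ≤ N := by
        have hpos : 0 < Nat.card ↥(centP x₁ y₁) := Nat.card_pos
        have h4 : 4 ≤ p * p := by nlinarith
        nlinarith
      obtain ⟨θ, hθ⟩ := ih ↥(centP x₁ y₁) ↥(centP x₂ y₂) _ _ (h₁.goodP_centP hxy₁)
        (h₂.goodP_centP hxy₂) hcC hlt
      refine ⟨(h₁.decompEquiv hxy₁).symm.trans ((TwistP.congr θ hθ).trans (h₂.decompEquiv hxy₂)), ?_⟩
      simp only [MulEquiv.trans_apply]
      have e1 : (h₁.decompEquiv hxy₁).symm c₁ = TwistP.inl (h₁.centC (x := x₁) (y := y₁)).val := by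
        rw [MulEquiv.symm_apply_eq]; exact (h₁.decompEquiv_inl hxy₁).symm
      rw [e1, TwistP.congr_inl, hθ, h₂.decompEquiv_inl]

theorem exists_equiv {E₁ : Type u₁} {E₂ : Type u₂} [Group E₁] [Group E₂]
    [Finite E₁] [Finite E₂] {c₁ : E₁} {c₂ : E₂} (h₁ : GoodP p E₁ c₁) (h₂ : GoodP p E₂ c₂)
    (hcard : Nat.card E₁ = Nat.card E₂) : ∃ θ : E₁ ≃* E₂, θ c₁ = c₂ :=
  exists_equiv_aux (Nat.card E₁) E₁ E₂ c₁ c₂ h₁ h₂ hcard le_rfl

end GoodP

/-- Extraspecial `p`-groups of exponent `p` are determined by their order. -/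
theorem extraspecial_exponent_p_iso {E₁ : Type u₁} {E₂ : Type u₂} [Group E₁] [Group E₂]
    [Finite E₁] [Finite E₂] {p : ℕ} [Fact p.Prime]
    (h₁ : Cfsg.IsExtraspecial p E₁) (h₂ : Cfsg.IsExtraspecial p E₂)
    (he₁ : Monoid.exponent E₁ = p) (he₂ : Monoid.exponent E₂ = p)
    (hc : Nat.card E₁ = Nat.card E₂) : Nonempty (E₁ ≃* E₂) := by
  obtain ⟨c₁, hg₁⟩ := GoodP.of_isExtraspecial h₁ he₁
  obtain ⟨c₂, hg₂⟩ := GoodP.of_isExtraspecial h₂ he₂
  obtain ⟨θ, -⟩ := hg₁.exists_equiv hg₂ hc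
  exact ⟨θ⟩

end Cfsg.Agent.Helper89
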